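import Cfsg.Agent.Lib.Zsigmondy.Basic

/-!
Feit's large primitive prime divisors of `a ^ n - 1`.

* `le_two_mul_totient_sq`: `n ≤ 2 φ(n)²`
* `exists_large_primitive_prime_divisor`
-/

set_option autoImplicit false

namespace Cfsg.Agent.Zsigmondy

open Polynomial

theorem le_two_mul_totient_sq_aux (n : ℕ) :
    n ≤ 2 * Nat.totient n ^ 2 ∧ (¬ 2 ∣ n → n ≤ Nat.totient n ^ 2) := by
  induction n using Nat.recOnPrimeCoprime with
  | zero => simp
  | prime_pow p k hp =>
    rcases k with _ | k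
    · simp
    rw [Nat.totient_prime_pow_succ hp]
    rcases hp.eq_two_or_odd with rfl | hodd
    · refine ⟨?_, fun h => absurd (dvd_pow_self 2 (Nat.succ_ne_zero k)) h⟩
      have h1 : 1 ≤ 2 ^ k := Nat.one_le_two_pow
      rw [pow_succ, show 2 - 1 = 1 from rfl, mul_one]
      nlinarith
    · have h3 : 3 ≤ p := by have := hp.two_le; omega
      have key : p ^ (k + 1) ≤ (p ^ k * (p - 1)) ^ 2 := by
        obtain ⟨q, rfl⟩ : ∃ q, p = q + 1 := ⟨p - 1, by omega⟩
        rw [Nat.add_sub_cancel, pow_succ, mul_pow]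
        refine Nat.mul_le_mul ?_ ?_
        · exact Nat.le_self_pow two_ne_zero _
        · nlinarith
      exact ⟨by omega, fun _ => key⟩
  | coprime a b ha hb hab ih1 ih2 =>
    rw [Nat.totient_mul hab, mul_pow]
    refine ⟨?_, fun h => Nat.mul_le_mul (ih1.2 fun h2 => h (h2.mul_right b))
      (ih2.2 fun h2 => h (h2.mul_left a))⟩
    by_cases h2 : 2 ∣ a
    · have hb2 : ¬ 2 ∣ b := fun h => by
        have h' := Nat.dvd_gcd h2 h
        rw [hab.gcd_eq_one] at h'
        exact absurd h' (by decide)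
      exact (Nat.mul_le_mul ih1.1 (ih2.2 hb2)).trans (le_of_eq (mul_assoc _ _ _))
    · exact (Nat.mul_le_mul (ih1.2 h2) ih2.1).trans (le_of_eq (mul_left_comm _ _ _))

theorem le_two_mul_totient_sq (n : ℕ) : n ≤ 2 * Nat.totient n ^ 2 :=
  (le_two_mul_totient_sq_aux n).1

/-- Lower bound on `Φ_{m r^(i+1)}(a)` in natural numbers. -/
theorem pow_le_phiVal_mul {r m a i : ℕ} (hr : r.Prime) (hm : ¬ r ∣ m) (ha : 1 < a) :
    ((a ^ r ^ i) ^ r - 1) ^ Nat.totient m ≤
      (phiVal (r ^ (i + 1) * m) a).natAbs * (a ^ r ^ i + 1) ^ Nat.totient m := by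
  set b : ℕ := a ^ r ^ i with hbdef
  set N := (phiVal (r ^ (i + 1) * m) a).natAbs with hN
  have hb1 : 1 < b := Nat.one_lt_pow (pow_ne_zero _ hr.ne_zero) ha
  have hpos : (0 : ℤ) < phiVal (r ^ (i + 1) * m) a := cyclotomic_pos' _ (by exact_mod_cast ha)
  have h1 : (cyclotomic (m * r) ℝ).eval (b : ℝ) = (N : ℝ) := by
    have h2 := congrArg (Int.cast : ℤ → ℝ) (Int.natAbs_of_nonneg hpos.le)
    rw [← hN] at h2
    push_cast at h2
    rw [h2, phiVal, mul_comm (r ^ (i + 1)) m, eval_cyclotomic_tower hr,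
      ← eq_intCast (Int.castRingHom ℝ), ← eval_map_apply, map_cyclotomic_int]
    simp [hbdef]
  have hmul := congrArg (Polynomial.eval (b : ℝ)) (cyclotomic_expand_eq_cyclotomic_mul hr hm ℝ)
  rw [expand_eval, eval_mul, h1] at hmul
  have hbr : (1 : ℝ) < (b : ℝ) ^ r := one_lt_pow₀ (by exact_mod_cast hb1) hr.ne_zero
  have hle : ((b : ℝ) ^ r - 1) ^ Nat.totient m ≤ (N : ℝ) * ((b : ℝ) + 1) ^ Nat.totient m :=
    (sub_one_pow_totient_le_cyclotomic_eval hbr m).trans (hmul.le.trans (mul_le_mul_of_nonneg_left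
      (cyclotomic_eval_le_add_one_pow_totient (q := (b : ℝ)) (by exact_mod_cast hb1) m)
      (Nat.cast_nonneg N)))
  have h3 : (((b ^ r - 1) ^ Nat.totient m : ℕ) : ℝ) ≤
      ((N * (b + 1) ^ Nat.totient m : ℕ) : ℝ) := by
    push_cast [Nat.one_le_pow r b (by omega)]
    exact hle
  exact_mod_cast h3

theorem four_pow_le (s : ℕ) : (s + 1) ^ 2 ≤ 4 ^ s := by
  induction s with
  | zero => simp
  | succ s ih =>
    have h : (s + 1 + 1) ^ 2 ≤ 4 * (s + 1) ^ 2 :=
      (Nat.pow_le_pow_left (show s + 1 + 1 ≤ 2 * (s + 1) by omega) 2).trans (le_of_eq (by ring))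
    rw [pow_succ 4 s]
    omega

/-- The size criterion. -/
theorem contra_of_criterion {B C r R m s : ℕ} (hs : 1 ≤ s) (hC : 0 < C) (hm : m ≤ 2 * s ^ 2)
    (h4 : 4 * C ≤ B) (hc : r * (2 * R + 1) * C < B) : r * (R * m + 1) * C ^ s < B ^ s := by
  obtain ⟨t, rfl⟩ : ∃ t, s = t + 1 := ⟨s - 1, by omega⟩
  have h1 : R * m + 1 ≤ (2 * R + 1) * (t + 1) ^ 2 := by
    have h2 := Nat.mul_le_mul_left R hm
    nlinarith
  calc r * (R * m + 1) * C ^ (t + 1)
      ≤ r * ((2 * R + 1) * (t + 1) ^ 2) * C ^ (t + 1) :=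
        Nat.mul_le_mul_right _ (Nat.mul_le_mul_left _ h1)
    _ = r * (2 * R + 1) * C * ((t + 1) ^ 2 * C ^ t) := by rw [pow_succ C t]; ring
    _ < B * ((t + 1) ^ 2 * C ^ t) := by
        refine Nat.mul_lt_mul_of_pos_right hc ?_
        positivity
    _ ≤ B * (4 ^ t * C ^ t) := Nat.mul_le_mul_left _ (Nat.mul_le_mul_right _ (four_pow_le t))
    _ = B * (4 * C) ^ t := by rw [mul_pow]
    _ ≤ B * B ^ t := Nat.mul_le_mul_left _ (Nat.pow_le_pow_left h4 t)
    _ = B ^ (t + 1) := by ring

/-- The size criterion holds except in seven small cases. -/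
theorem criterion_or {a r j : ℕ} (ha : 2 ≤ a) (hr : r.Prime) (hr3 : 3 ≤ r) :
    (4 * (a ^ r ^ j + 1) ≤ (a ^ r ^ j) ^ r - 1 ∧
      r * (2 * r ^ (j + 1) + 1) * (a ^ r ^ j + 1) < (a ^ r ^ j) ^ r - 1) ∨
    (j = 0 ∧ r = 3 ∧ a ≤ 5) ∨ (j = 1 ∧ r = 3 ∧ a = 2) ∨ (j = 0 ∧ (r = 5 ∨ r = 7) ∧ a = 2) := by
  set b := a ^ r ^ j with hb
  set T := r * (2 * r ^ (j + 1) + 1) with hT
  have hT4 : 4 ≤ T := by
    have h1 : 1 ≤ r ^ (j + 1) := Nat.one_le_pow _ _ hr.pos
    have h2 : 3 * 3 ≤ r * (2 * r ^ (j + 1) + 1) := Nat.mul_le_mul hr3 (by omega)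
    rw [hT]; omega
  suffices h : T * (b + 1) + 1 < b ^ r ∨
      (j = 0 ∧ r = 3 ∧ a ≤ 5) ∨ (j = 1 ∧ r = 3 ∧ a = 2) ∨ (j = 0 ∧ (r = 5 ∨ r = 7) ∧ a = 2) by
    refine h.imp_left fun h => ⟨?_, by omega⟩
    have h1 : 4 * (b + 1) ≤ T * (b + 1) := Nat.mul_le_mul_right _ hT4
    omega
  -- a sufficient condition
  have suff : 2 * T ≤ b ^ (r - 1) → T * (b + 1) + 1 < b ^ r := by
    intro h
    have hb2 : 2 ≤ b := Nat.one_lt_pow (pow_ne_zero _ hr.ne_zero) ha
    have h1 : b ^ r = b ^ (r - 1) * b := by rw [← pow_succ]; congr 1; omega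
    have h2 : 2 * T * b ≤ b ^ (r - 1) * b := Nat.mul_le_mul_right _ h
    have h3 : T * (b + 1) + 1 < 2 * T * b := by nlinarith
    omega
  rcases j with _ | j
  · simp only [zero_add, pow_zero, pow_one] at hb hT
    rcases (show r = 3 ∨ r = 4 ∨ r = 5 ∨ r = 6 ∨ r = 7 ∨ 8 ≤ r by omega) with
      rfl | rfl | rfl | rfl | rfl | hr8
    · rcases (show a ≤ 5 ∨ 6 ≤ a by omega) with h | h
      · exact Or.inr (Or.inl ⟨rfl, rfl, h⟩)
      · left
        rw [hb, hT]
        nlinarith [Nat.mul_le_mul h h]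
    · exact absurd hr (by norm_num)
    · rcases (show a = 2 ∨ a = 3 ∨ 4 ≤ a by omega) with h | h | h
      · exact Or.inr (Or.inr (Or.inr ⟨rfl, Or.inl rfl, h⟩))
      · left; rw [hb, hT, h]; norm_num
      · left
        refine suff ?_
        rw [hb, hT]
        exact le_trans (by norm_num) (Nat.pow_le_pow_left h 4)
    · exact absurd hr (by norm_num)
    · rcases (show a = 2 ∨ 3 ≤ a by omega) with h | h
      · exact Or.inr (Or.inr (Or.inr ⟨rfl, Or.inr rfl, h⟩))
      · left
        refine suff ?_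
        rw [hb, hT]
        exact le_trans (by norm_num) (Nat.pow_le_pow_left h 6)
    · left
      have h11 : 11 ≤ r := by
        by_contra hlt
        rcases (show r = 8 ∨ r = 9 ∨ r = 10 by omega) with rfl | rfl | rfl <;>
          exact absurd hr (by norm_num)
      refine suff ?_
      have key : ∀ k, 10 ≤ k → 2 * ((k + 1) * (2 * (k + 1) + 1)) ≤ 2 ^ k := by
        intro k hk
        induction k, hk using Nat.le_induction with
        | base => norm_num
        | succ k hk ih => rw [pow_succ]; nlinarith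
      have h1 := key (r - 1) (by omega)
      rw [Nat.sub_add_cancel hr.one_lt.le] at h1
      rw [hT]
      exact h1.trans (Nat.pow_le_pow_left (hb ▸ ha) _)
  · set S := r ^ (j + 1) with hS
    have hSr : r ≤ S := Nat.le_self_pow (Nat.succ_ne_zero j) r
    have hTS : T = r * (2 * (S * r) + 1) := by rw [hT, hS, pow_succ r (j + 1)]
    rcases (show r = 3 ∨ r = 4 ∨ 5 ≤ r by omega) with rfl | rfl | hr5
    · rcases j with _ | j
      · rcases (show a = 2 ∨ 3 ≤ a by omega) with h | h
        · exact Or.inr (Or.inr (Or.inl ⟨rfl, rfl, h⟩))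
        · left
          refine suff ?_
          rw [hb, hTS, hS]
          norm_num
          calc 114 ≤ (3 ^ 3) ^ 2 := by norm_num
            _ ≤ (a ^ 3) ^ 2 := Nat.pow_le_pow_left (Nat.pow_le_pow_left h 3) 2
      · left
        refine suff ?_
        have hS9 : 9 ≤ S := by
          rw [hS]
          exact le_trans (by norm_num) (Nat.pow_le_pow_right (by norm_num) (show 2 ≤ j + 1 + 1 by omega))
        have key : ∀ k, 9 ≤ k → 2 * (3 * (2 * (k * 3) + 1)) ≤ (2 ^ k) ^ 2 := by
          intro k hk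
          induction k, hk using Nat.le_induction with
          | base => norm_num
          | succ k hk ih => rw [pow_succ 2 k, mul_pow]; nlinarith
        rw [hTS, hb]
        exact (key S hS9).trans (Nat.pow_le_pow_left (Nat.pow_le_pow_left ha S) 2)
    · exact absurd hr (by norm_num)
    · left
      refine suff ?_
      have key : ∀ k, 5 ≤ k → 2 * (k * (2 * (k * k) + 1)) ≤ (2 ^ k) ^ 4 := by
        intro k hk
        induction k, hk using Nat.le_induction with
        | base => norm_num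
        | succ k hk ih =>
          rw [pow_succ 2 k, mul_pow]
          have h5 : 25 ≤ k * k := Nat.mul_le_mul hk hk
          nlinarith
      have h1 : T ≤ S * (2 * (S * S) + 1) := by
        rw [hTS]
        refine Nat.mul_le_mul hSr ?_
        have := Nat.mul_le_mul_left S hSr
        omega
      calc 2 * T ≤ 2 * (S * (2 * (S * S) + 1)) := Nat.mul_le_mul_left _ h1
        _ ≤ (2 ^ S) ^ 4 := key S (hSr.trans' hr5)
        _ ≤ b ^ 4 := Nat.pow_le_pow_left (hb ▸ Nat.pow_le_pow_left ha S) 4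
        _ ≤ b ^ (r - 1) := Nat.pow_le_pow_right
            (hb ▸ Nat.one_le_pow _ _ (by omega)) (by omega)

/-- Bounding `m` in a failing case. -/
theorem m_le {B C r R k : ℕ} (hkey : ∀ s, k < s → r * (2 * R * s ^ 2 + 1) * C ^ s < B ^ s)
    {m : ℕ} (h : B ^ Nat.totient m ≤ r * (R * m + 1) * C ^ Nat.totient m) : m ≤ 2 * k ^ 2 := by
  have hm := le_two_mul_totient_sq m
  by_contra hlt
  have hs : k < Nat.totient m := by
    by_contra hle
    have h1 : Nat.totient m ^ 2 ≤ k ^ 2 := Nat.pow_le_pow_left (not_lt.1 hle) 2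
    omega
  have h1 : r * (R * m + 1) ≤ r * (2 * R * Nat.totient m ^ 2 + 1) := by
    have := Nat.mul_le_mul_left R hm
    refine Nat.mul_le_mul_left r ?_
    rw [mul_comm 2 R, mul_assoc]
    omega
  exact absurd h (not_le.2 ((Nat.mul_le_mul_right _ h1).trans_lt (hkey _ hs)))

theorem grow {B C r R k : ℕ} (hk : 1 ≤ k)
    (hbase : r * (2 * R * (k + 1) ^ 2 + 1) * C ^ (k + 1) < B ^ (k + 1))
    (hratio : (k + 2) ^ 2 * C ≤ (k + 1) ^ 2 * B) :
    ∀ s, k < s → r * (2 * R * s ^ 2 + 1) * C ^ s < B ^ s := by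
  intro s hs
  induction s, hs using Nat.le_induction with
  | base => exact hbase
  | succ s hs ih =>
    -- `((s+1)/s)^2` decreases
    have hr1 : (s + 1) ^ 2 * C ≤ s ^ 2 * B := by
      have h1 : (s + 1) * (k + 1) ≤ s * (k + 2) := by nlinarith
      have h2 : ((s + 1) * (k + 1)) ^ 2 * C ≤ (s * (k + 2)) ^ 2 * C :=
        Nat.mul_le_mul_right _ (Nat.pow_le_pow_left h1 2)
      have h3 : s ^ 2 * ((k + 2) ^ 2 * C) ≤ s ^ 2 * ((k + 1) ^ 2 * B) := Nat.mul_le_mul_left _ hratio
      have h4 : (k + 1) ^ 2 * ((s + 1) ^ 2 * C) ≤ (k + 1) ^ 2 * (s ^ 2 * B) := by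
        rw [mul_pow, mul_pow] at h2
        nlinarith
      exact Nat.le_of_mul_le_mul_left h4 (by positivity)
    have h5 : (2 * R * (s + 1) ^ 2 + 1) * C ≤ (2 * R * s ^ 2 + 1) * B := by
      have hCB : C ≤ B := by
        have h6 : s ^ 2 * C ≤ (s + 1) ^ 2 * C := Nat.mul_le_mul_right _ (Nat.pow_le_pow_left (by omega) 2)
        exact Nat.le_of_mul_le_mul_left (h6.trans hr1) (pow_pos (by omega : 0 < s) 2)
      have h7 := Nat.mul_le_mul_left (2 * R) hr1
      nlinarith
    have hBpos : 0 < B := by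
      rcases Nat.eq_zero_or_pos B with h0 | h0
      · rw [h0, zero_pow (by omega)] at ih; omega
      · exact h0
    calc r * (2 * R * (s + 1) ^ 2 + 1) * C ^ (s + 1)
        = r * C ^ s * ((2 * R * (s + 1) ^ 2 + 1) * C) := by rw [pow_succ]; ring
      _ ≤ r * C ^ s * ((2 * R * s ^ 2 + 1) * B) := Nat.mul_le_mul_left _ h5
      _ = r * (2 * R * s ^ 2 + 1) * C ^ s * B := by ring
      _ < B ^ s * B := Nat.mul_lt_mul_of_pos_right ih hBpos
      _ = B ^ (s + 1) := (pow_succ _ _).symm

theorem two_pow_size {u : ℕ} (hu : 4 ≤ u) : 4 * u + 1 < 2 ^ u ∨ u = 4 := by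
  rcases (show u = 4 ∨ 5 ≤ u by omega) with h | h
  · exact Or.inr h
  · left
    induction u, h using Nat.le_induction with
    | base => norm_num
    | succ u hu' ih => rw [pow_succ]; have := ih (by omega); omega

/-- Feit: primitive prime divisors with `n + 1 < p` or `p² ∣ aⁿ - 1`. -/
theorem exists_large_primitive_prime_divisor (q n : ℕ) (hq : 2 ≤ q) (hn : 2 ≤ n)
    (h1 : ¬ (n = 2 ∧ ∃ s t : ℕ, t ≤ 1 ∧ q + 1 = 2 ^ s * 3 ^ t))
    (h2 : ¬ (q = 2 ∧ (n = 4 ∨ n = 6 ∨ n = 10 ∨ n = 12 ∨ n = 18)))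
    (h3 : ¬ (q = 3 ∧ (n = 4 ∨ n = 6))) (h4 : ¬ (q = 5 ∧ n = 6)) :
    ∃ p : ℕ, p.Prime ∧ p ∣ q ^ n - 1 ∧ (∀ i : ℕ, 1 ≤ i → i < n → ¬ p ∣ q ^ i - 1) ∧
      (n + 1 < p ∨ p ^ 2 ∣ q ^ n - 1) := by
  have hsq : q ^ 2 - 1 = (q + 1) * (q - 1) := by
    have h := Nat.sq_sub_sq q 1
    rwa [one_pow] at h
  rcases (show n = 2 ∨ 3 ≤ n by omega) with rfl | hn3
  · have hodd : ∀ p : ℕ, p.Prime → p ∣ q + 1 → p ≠ 2 →
        p ∣ q ^ 2 - 1 ∧ ∀ i : ℕ, 1 ≤ i → i < 2 → ¬ p ∣ q ^ i - 1 := by
      intro p hp hpd hp2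
      refine ⟨hsq ▸ hpd.mul_right _, fun i hi hi2 hd => ?_⟩
      obtain rfl : i = 1 := by omega
      rw [pow_one] at hd
      have h := Nat.dvd_sub hpd hd
      rw [show q + 1 - (q - 1) = 2 by omega] at h
      exact hp2 ((Nat.prime_dvd_prime_iff_eq hp Nat.prime_two).1 h)
    by_cases h9 : 9 ∣ q + 1
    · obtain ⟨ha, hb⟩ := hodd 3 Nat.prime_three ((by norm_num : 3 ∣ 9).trans h9) (by norm_num)
      exact ⟨3, Nat.prime_three, ha, hb, Or.inr (hsq ▸ h9.mul_right _)⟩
    by_cases h5 : ∃ p, p.Prime ∧ p ∣ q + 1 ∧ 5 ≤ p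
    · obtain ⟨p, hp, hpd, hp5⟩ := h5
      obtain ⟨ha, hb⟩ := hodd p hp hpd (by omega)
      exact ⟨p, hp, ha, hb, Or.inl (by omega)⟩
    exfalso
    refine h1 ⟨rfl, (q + 1).factorization 2, (q + 1).factorization 3, ?_, ?_⟩
    · by_contra hlt
      exact h9 ((Nat.Prime.pow_dvd_iff_le_factorization Nat.prime_three (by omega) (k := 2)).2
        (by omega))
    · obtain ⟨e, m, hm, he⟩ := Nat.exists_eq_pow_mul_and_not_dvd (Nat.succ_ne_zero q) 2 (by norm_num)
      obtain ⟨f, l, hl, hf⟩ := Nat.exists_eq_pow_mul_and_not_dvd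
        (show m ≠ 0 by rintro rfl; exact hm (dvd_zero 2)) 3 (by norm_num)
      have hl1 : l = 1 := by
        by_contra hne
        obtain ⟨p, hp, hpl⟩ := Nat.exists_prime_and_dvd hne
        refine h5 ⟨p, hp, ?_, ?_⟩
        · show p ∣ q.succ
          rw [he, hf]
          exact (hpl.mul_left _).mul_left _
        · have := hp.two_le
          by_contra hlt
          rcases (show p = 2 ∨ p = 3 ∨ p = 4 by omega) with rfl | rfl | rfl
          · exact hm (hf ▸ hpl.mul_left _)
          · exact hl hpl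
          · exact absurd hp (by norm_num)
      have he' : q + 1 = 2 ^ e * 3 ^ f := by
        show q.succ = _
        rw [he, hf, hl1, mul_one]
      rw [he', Nat.factorization_mul (by positivity) (by positivity),
        Nat.Prime.factorization_pow Nat.prime_two, Nat.Prime.factorization_pow Nat.prime_three]
      simp
  by_contra hno
  push Not at hno
  -- the two kinds of prime divisors of `Φ_n(q)`
  have kind : ∀ p : ℕ, p.Prime → (p : ℤ) ∣ phiVal n q →
      (p = n + 1 ∧ ¬ p ^ 2 ∣ q ^ n - 1) ∨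
      ∃ j m, n = p ^ (j + 1) * m ∧ ¬ p ∣ m ∧ orderOf (q : ZMod p) = m ∧ m ∣ p - 1 := by
    intro p hp hd
    haveI := Fact.mk hp
    obtain ⟨j, m, he, hm, ho⟩ := orderOf_of_dvd_phiVal (by omega) hd
    have hm1 : m ∣ p - 1 := by
      rw [← ho]
      refine ZMod.orderOf_dvd_card_sub_one fun h0 => ?_
      rw [h0, orderOf_zero] at ho
      exact hm (ho ▸ dvd_zero p)
    rcases j with _ | j
    · left
      rw [pow_zero, one_mul] at he
      subst he
      have hp1 : n + 1 ≤ p := by
        have h := Nat.le_of_dvd (by have := hp.two_le; omega) hm1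
        have := hp.two_le
        omega
      have hprim : ∀ i : ℕ, 1 ≤ i → i < n → ¬ p ∣ q ^ i - 1 := by
        intro i hi hin hdi
        have h := orderOf_lt_of_not_primitive (a := q) (n := n) (r := p) (by omega)
          ⟨i, hi, hin, hdi⟩
        rw [ho] at h
        exact absurd h (lt_irrefl n)
      obtain ⟨ha, hb⟩ := hno p hp (natCast_dvd_sub_one (by omega) hd) hprim
      exact ⟨by omega, hb⟩
    · exact Or.inr ⟨j, m, he, hm, ho, hm1⟩
  set N := (phiVal n q).natAbs with hN
  have hNpos : (0 : ℤ) < phiVal n q := cyclotomic_pos' n (by exact_mod_cast hq)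
  have hN' : (N : ℤ) = phiVal n q := Int.natAbs_of_nonneg hNpos.le
  have hcast : ∀ d : ℕ, d ∣ N → (d : ℤ) ∣ phiVal n q := fun d hd =>
    hN' ▸ Int.natCast_dvd_natCast.2 hd
  by_cases htwo : ∃ k, n = 2 ^ k
  · obtain ⟨k, hk⟩ := htwo
    subst hk
    obtain ⟨i, rfl⟩ : ∃ i, k = i + 2 := ⟨k - 2, by
      rcases k with _ | _ | k
      · simp at hn3
      · simp at hn3
      · omega⟩
    set y : ℤ := (q : ℤ) ^ 2 ^ i with hy
    have hval : phiVal (2 ^ (i + 2)) q = y ^ 2 + 1 := by
      rw [phiVal, cyclotomic_prime_pow_eq_geom_sum Nat.prime_two]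
      simp only [Finset.sum_range_succ, Finset.sum_range_zero, zero_add, pow_zero, pow_one,
        eval_add, eval_one, eval_pow, eval_X]
      rw [hy, pow_succ 2 i, pow_mul]
      ring
    have hdvd : N ∣ 2 * (2 ^ (i + 2) + 1) := by
      refine (Nat.dvd_iff_prime_pow_dvd_dvd _ _).2 fun p k hp hpk => ?_
      rcases k with _ | k
      · simp
      have hpN : p ∣ N := (dvd_pow_self p (Nat.succ_ne_zero k)).trans hpk
      have hk0 : p ^ 2 ∣ p ^ (k + 1) ↔ 1 ≤ k := by
        rw [Nat.pow_dvd_pow_iff_le_right hp.one_lt]; omega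
      rcases kind p hp (hcast p hpN) with ⟨he, hnsq⟩ | ⟨j, m, he, -, -, -⟩
      · have hkz : k = 0 := by
          by_contra hk1
          refine hnsq (natCast_dvd_sub_one (by omega) (hcast _ ?_))
          exact ((hk0.2 (by omega))).trans hpk
        subst hkz
        rw [zero_add, pow_one, he]
        exact dvd_mul_left _ _
      · have hp2 : p = 2 := by
          have h : p ∣ 2 ^ (i + 2) := he ▸ (dvd_pow_self p (Nat.succ_ne_zero j)).mul_right m
          exact (Nat.prime_dvd_prime_iff_eq hp Nat.prime_two).1 (hp.dvd_of_dvd_pow h)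
        subst hp2
        have hkz : k = 0 := by
          by_contra hk1
          have h4' : (4 : ℤ) ∣ y ^ 2 + 1 := by
            rw [← hval, ← hN']
            exact_mod_cast (hk0.2 (by omega)).trans hpk
          have h5 := (ZMod.intCast_zmod_eq_zero_iff_dvd _ 4).2 h4'
          push_cast at h5
          revert h5
          generalize (y : ZMod 4) = z
          revert z
          decide
        subst hkz
        rw [zero_add, pow_one]
        exact dvd_mul_right _ _
    have hle := Nat.le_of_dvd (by positivity) hdvd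
    have hNval : N = (q ^ 2 ^ i) ^ 2 + 1 := by
      have : (N : ℤ) = (((q ^ 2 ^ i) ^ 2 + 1 : ℕ) : ℤ) := by
        rw [hN', hval, hy]; push_cast; ring
      exact_mod_cast this
    rw [hNval, ← pow_mul, ← pow_succ 2 i] at hle
    rcases i with _ | i
    · norm_num at hle
      rcases (show q ≤ 3 ∨ 4 ≤ q by omega) with h | h
      · rcases (show q = 2 ∨ q = 3 by omega) with rfl | rfl
        · exact h2 ⟨rfl, by norm_num⟩
        · exact h3 ⟨rfl, by norm_num⟩
      · nlinarith
    set u := 2 ^ (i + 1 + 1) with hu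
    have hu4 : 4 ≤ u := le_trans (by norm_num : 4 ≤ 2 ^ 2)
      (Nat.pow_le_pow_right two_pos (show 2 ≤ i + 1 + 1 by omega))
    have hn2 : 2 ^ (i + 1 + 2) = 2 * u := by rw [hu, ← pow_succ']
    rw [hn2] at hle
    have h2u : 2 ^ u ≤ q ^ u := Nat.pow_le_pow_left hq u
    rcases two_pow_size hu4 with h | h
    · omega
    · -- `n = 8`
      have hn8 : 2 ^ (i + 1 + 2) = 8 := by omega
      rw [h] at h2u hle hn2
      have hN17 : N ∣ 2 * (2 * 4 + 1) := by rw [hn2] at hdvd; exact hdvd
      have hq4 : q ^ 4 ≤ 17 := by omega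
      obtain rfl : q = 2 := by
        by_contra hne
        have := Nat.pow_le_pow_left (show 3 ≤ q by omega) 4
        omega
      rw [hNval] at hN17
      have hi : i = 0 := by
        have h' : 2 ^ (i + 1 + 1) = 2 ^ 2 := by rw [← hu, h]; norm_num
        have := Nat.pow_right_injective le_rfl h'
        omega
      subst hi
      norm_num at hN17
  -- `n` has an odd prime divisor
  obtain ⟨r, hr, hr3, j, m, he, hm, hdvd⟩ : ∃ r, r.Prime ∧ 3 ≤ r ∧ ∃ j m, n = r ^ (j + 1) * m ∧
      ¬ r ∣ m ∧ N ∣ r * (n + 1) := by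
    have hsel : ∀ r : ℕ, r.Prime → 3 ≤ r → r ∣ n →
        (∀ p : ℕ, p.Prime → p ∣ N → p = r ∨ p = n + 1) →
        (r ∣ N → orderOf (q : ZMod r) ∣ n / r) →
        ∃ r, r.Prime ∧ 3 ≤ r ∧ ∃ j m, n = r ^ (j + 1) * m ∧ ¬ r ∣ m ∧ N ∣ r * (n + 1) := by
      intro r hr hr3 hrn honly hord
      haveI := Fact.mk hr
      obtain ⟨e, m, hm, he⟩ := Nat.exists_eq_pow_mul_and_not_dvd (show n ≠ 0 by omega) r hr.ne_one
      obtain ⟨j, rfl⟩ : ∃ j, e = j + 1 := ⟨e - 1, by
        rcases e with _ | e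
        · rw [pow_zero, one_mul] at he
          exact absurd (he ▸ hrn) hm
        · omega⟩
      refine ⟨r, hr, hr3, j, m, he, hm, (Nat.dvd_iff_prime_pow_dvd_dvd _ _).2 fun p k hp hpk => ?_⟩
      rcases k with _ | k
      · simp
      have hpN : p ∣ N := (dvd_pow_self p (Nat.succ_ne_zero k)).trans hpk
      have hk0 : k = 0 := by
        by_contra hk1
        have hp2 : ((p ^ 2 : ℕ) : ℤ) ∣ phiVal n q :=
          hcast _ ((pow_dvd_pow p (show 2 ≤ k + 1 by omega)).trans hpk)
        rcases honly p hp hpN with rfl | rfl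
        · refine not_sq_dvd_phiVal (hr.odd_of_ne_two (by omega)) (by omega) hrn (by omega)
            (hord hpN) ?_
          exact_mod_cast hp2
        · rcases kind _ hp (hcast _ hpN) with ⟨-, hnsq⟩ | ⟨j', m', he', -, -, -⟩
          · exact hnsq (natCast_dvd_sub_one (by omega) hp2)
          · have h : n + 1 ∣ n :=
              ((dvd_pow_self _ (Nat.succ_ne_zero j')).mul_right m').trans (dvd_of_eq he'.symm)
            exact absurd (Nat.le_of_dvd (by omega) h) (by omega)
      subst hk0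
      rw [zero_add, pow_one]
      rcases honly p hp hpN with rfl | rfl
      · exact dvd_mul_right _ _
      · exact dvd_mul_left _ _
    by_cases hex : ∃ p, p.Prime ∧ p ∣ N ∧ p ≠ n + 1
    · obtain ⟨p, hp, hpN, hpne⟩ := hex
      obtain ⟨j, m, he, hm, ho, hm1⟩ := (kind p hp (hcast p hpN)).resolve_left fun h => hpne h.1
      have hp3 : 3 ≤ p := by
        by_contra hlt
        obtain rfl : p = 2 := by have := hp.two_le; omega
        obtain rfl : m = 1 := Nat.dvd_one.1 (by simpa using hm1)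
        exact htwo ⟨j + 1, by rw [he, mul_one]⟩
      refine hsel p hp hp3 (he ▸ (dvd_pow_self p (Nat.succ_ne_zero j)).mul_right m) ?_ fun _ => ?_
      · intro d hd hdN
        rcases kind d hd (hcast d hdN) with ⟨h, -⟩ | ⟨j', m', he', hm', -, hm1'⟩
        · exact Or.inr h
        left
        by_contra hdp
        have hdm : d ∣ m := by
          have h : d ∣ p ^ (j + 1) * m :=
            he ▸ he' ▸ (dvd_pow_self d (Nat.succ_ne_zero j')).mul_right m'
          exact ((hd.dvd_mul).1 h).resolve_left fun h' =>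
            hdp ((Nat.prime_dvd_prime_iff_eq hd hp).1 (hd.dvd_of_dvd_pow h'))
        have hpm : p ∣ m' := by
          have h : p ∣ d ^ (j' + 1) * m' :=
            he' ▸ he ▸ (dvd_pow_self p (Nat.succ_ne_zero j)).mul_right m
          exact ((hp.dvd_mul).1 h).resolve_left fun h' =>
            hdp ((Nat.prime_dvd_prime_iff_eq hp hd).1 (hp.dvd_of_dvd_pow h')).symm
        have h1 := Nat.le_of_dvd (by omega) (hdm.trans hm1)
        have h2 := Nat.le_of_dvd (by have := hd.two_le; omega) (hpm.trans hm1')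
        have := hd.two_le
        omega
      · rw [ho, he, pow_succ', mul_assoc, Nat.mul_div_cancel_left _ hp.pos]
        exact dvd_mul_left m _
    · push Not at hex
      obtain ⟨e, l, hl, hel⟩ := Nat.exists_eq_pow_mul_and_not_dvd (show n ≠ 0 by omega) 2 (by norm_num)
      have hl1 : l ≠ 1 := fun h => htwo ⟨e, by rw [hel, h, mul_one]⟩
      obtain ⟨r, hr, hrl⟩ := Nat.exists_prime_and_dvd hl1
      have hr3 : 3 ≤ r := by
        by_contra hlt
        obtain rfl : r = 2 := by have := hr.two_le; omega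
        exact hl hrl
      have hrn : r ∣ n := hel ▸ hrl.mul_left _
      refine hsel r hr hr3 hrn (fun p hp hpN => Or.inr (hex p hp hpN)) fun hrN => ?_
      have h := hex r hr hrN
      exact absurd (Nat.le_of_dvd (by omega) hrn) (by omega)
  have hNle : N ≤ r * (n + 1) := Nat.le_of_dvd (by positivity) hdvd
  have hbound : ((q ^ r ^ j) ^ r - 1) ^ Nat.totient m ≤
      r * (r ^ (j + 1) * m + 1) * (q ^ r ^ j + 1) ^ Nat.totient m := by
    refine (pow_le_phiVal_mul hr hm (by omega)).trans (Nat.mul_le_mul_right _ ?_)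
    rw [← he, ← hN]
    exact hNle
  have hm0 : m ≠ 0 := fun h => hm (h ▸ dvd_zero r)
  -- `n` is even, as `n + 1` is a prime
  have hppd := exists_primitive_prime_divisor q n (by omega) (by omega)
    (fun h => h2 ⟨h.1, by omega⟩) (fun h => by omega)
  obtain ⟨p, hp, hpd, hpprim⟩ := hppd
  have hpn : p = n + 1 := by
    haveI := Fact.mk hp
    have hord : orderOf (q : ZMod p) = n := by
      have h1 : (q : ZMod p) ^ n = 1 := by
        have h := (CharP.cast_eq_zero_iff (ZMod p) p _).2 hpd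
        rw [Nat.cast_sub (Nat.one_le_pow _ _ (by omega)), Nat.cast_pow, Nat.cast_one,
          sub_eq_zero] at h
        exact h
      have hpos : 0 < orderOf (q : ZMod p) :=
        Nat.pos_of_dvd_of_pos (orderOf_dvd_of_pow_eq_one h1) (by omega)
      refine le_antisymm (Nat.le_of_dvd (by omega) (orderOf_dvd_of_pow_eq_one h1)) ?_
      by_contra hlt
      refine hpprim _ hpos (not_le.1 hlt) ((CharP.cast_eq_zero_iff (ZMod p) p _).1 ?_)
      rw [Nat.cast_sub (Nat.one_le_pow _ _ (by omega)), Nat.cast_pow, Nat.cast_one,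
        pow_orderOf_eq_one, sub_self]
    have hne : (q : ZMod p) ≠ 0 := fun h0 => by
      rw [h0, orderOf_zero] at hord; omega
    have h := Nat.le_of_dvd (by have := hp.two_le; omega)
      (hord ▸ ZMod.orderOf_dvd_card_sub_one hne)
    obtain ⟨ha, -⟩ := hno p hp hpd (fun i hi hin => hpprim i hi hin)
    have := hp.two_le
    omega
  have hmeven : 2 ∣ m := by
    by_contra hmo
    have hodd : ¬ 2 ∣ n := by
      intro h
      rw [he] at h
      rcases (Nat.prime_two.dvd_mul).1 h with h | h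
      · exact absurd ((Nat.prime_dvd_prime_iff_eq Nat.prime_two hr).1
          (Nat.prime_two.dvd_of_dvd_pow h)) (by omega)
      · exact hmo h
    rcases hp.eq_two_or_odd with hp2 | hp2 <;> omega
  have hprime : (r ^ (j + 1) * m + 1).Prime := he ▸ hpn ▸ hp
  rcases criterion_or hq hr hr3 (j := j) with ⟨hc4, hc⟩ | hsmall | hsmall | hsmall
  · exact absurd hbound (not_le.2 (contra_of_criterion
      (Nat.totient_pos.2 (Nat.pos_of_ne_zero hm0)) (by omega) (le_two_mul_totient_sq m) hc4 hc))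
  · obtain ⟨rfl, rfl, hq5⟩ := hsmall
    simp only [zero_add, pow_zero, pow_one] at hbound he hprime
    rcases (show q = 2 ∨ q = 3 ∨ q = 4 ∨ q = 5 by omega) with rfl | rfl | rfl | rfl
    · have hml := m_le (k := 8) (grow (by norm_num) (by norm_num) (by norm_num)) hbound
      have hlist : ∀ m ∈ Finset.range (2 * 8 ^ 2 + 1), 2 ∣ m → ¬ 3 ∣ m →
          (2 ^ 3 - 1) ^ Nat.totient m ≤ 3 * (3 * m + 1) * (2 + 1) ^ Nat.totient m →
          m = 0 ∨ m = 2 ∨ m = 4 ∨ m = 8 ∨ m = 10 := by decide +kernel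
      rcases hlist m (Finset.mem_range.2 (Nat.lt_succ_of_le hml)) hmeven hm hbound with rfl | rfl | rfl | rfl | rfl
      · exact hm0 rfl
      · exact h2 ⟨rfl, by omega⟩
      · exact h2 ⟨rfl, by omega⟩
      · exact absurd hprime (by norm_num)
      · norm_num at he
        subst he
        exact (hno 331 (by norm_num) (by decide +kernel) (by decide +kernel)).1.not_gt (by norm_num)
    · have hml := m_le (k := 2) (grow (by norm_num) (by norm_num) (by norm_num)) hbound
      have hlist : ∀ m ∈ Finset.range (2 * 2 ^ 2 + 1), 2 ∣ m → ¬ 3 ∣ m →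
          (3 ^ 3 - 1) ^ Nat.totient m ≤ 3 * (3 * m + 1) * (3 + 1) ^ Nat.totient m →
          m = 0 ∨ m = 2 := by decide +kernel
      rcases hlist m (Finset.mem_range.2 (Nat.lt_succ_of_le hml)) hmeven hm hbound with rfl | rfl
      · exact hm0 rfl
      · exact h3 ⟨rfl, by omega⟩
    · have hml := m_le (k := 1) (grow le_rfl (by norm_num) (by norm_num)) hbound
      obtain rfl : m = 2 := by omega
      norm_num at he
      subst he
      exact (hno 13 (by norm_num) (by decide +kernel) (by decide +kernel)).1.not_gt (by norm_num)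
    · have hml := m_le (k := 1) (grow le_rfl (by norm_num) (by norm_num)) hbound
      obtain rfl : m = 2 := by omega
      exact h4 ⟨rfl, by omega⟩
  · obtain ⟨rfl, rfl, rfl⟩ := hsmall
    norm_num at hbound he
    have hml := m_le (B := 511) (C := 9) (r := 3) (R := 9) (k := 1)
      (grow le_rfl (by norm_num) (by norm_num)) hbound
    obtain rfl : m = 2 := by omega
    exact h2 ⟨rfl, by omega⟩
  · obtain ⟨rfl, h57, rfl⟩ := hsmall
    rcases h57 with rfl | rfl
    · norm_num at hbound he hprime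
      have hml := m_le (B := 31) (C := 3) (r := 5) (R := 5) (k := 2)
        (grow (by norm_num) (by norm_num) (by norm_num)) hbound
      rcases (show m = 2 ∨ m = 4 ∨ m = 6 ∨ m = 8 by omega) with rfl | rfl | rfl | rfl
      · exact h2 ⟨rfl, by omega⟩
      · exact absurd hprime (by norm_num)
      · norm_num at he
        subst he
        exact (hno 331 (by norm_num) (by decide +kernel) (by decide +kernel)).1.not_gt (by norm_num)
      · rw [show Nat.totient 8 = 4 from by decide] at hbound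
        norm_num at hbound
    · norm_num at hbound he hprime
      have hml := m_le (B := 127) (C := 3) (r := 7) (R := 7) (k := 1)
        (grow le_rfl (by norm_num) (by norm_num)) hbound
      obtain rfl : m = 2 := by omega
      exact absurd hprime (by norm_num)

end Cfsg.Agent.Zsigmondy
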