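import Mathlib

/-!
Zsigmondy's theorem on primitive prime divisors of `a ^ n - 1`.

* `exists_primitive_prime_divisor`
-/

set_option autoImplicit false

namespace Cfsg.Agent.Zsigmondy

open Polynomial

/-- The value `Φ_n(a)`. -/
noncomputable def phiVal (n a : ℕ) : ℤ := (cyclotomic n ℤ).eval (a : ℤ)

theorem phiVal_dvd_pow_sub_one (n a : ℕ) : phiVal n a ∣ (a : ℤ) ^ n - 1 := by
  have h := eval_dvd (x := (a : ℤ)) (cyclotomic.dvd_X_pow_sub_one n ℤ)
  simpa [phiVal] using h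

theorem orderOf_of_dvd_phiVal {n a r : ℕ} [hr : Fact r.Prime] (hn : n ≠ 0)
    (h : (r : ℤ) ∣ phiVal n a) :
    ∃ j m, n = r ^ j * m ∧ ¬ r ∣ m ∧ orderOf (a : ZMod r) = m := by
  obtain ⟨j, m, hm, he⟩ := Nat.exists_eq_pow_mul_and_not_dvd hn r hr.out.ne_one
  refine ⟨j, m, he, hm, ?_⟩
  haveI : NeZero (m : ZMod r) := ⟨fun h0 => hm ((CharP.cast_eq_zero_iff (ZMod r) r m).1 h0)⟩
  refine (IsPrimitiveRoot.eq_orderOf ?_).symm
  rw [← isRoot_cyclotomic_prime_pow_mul_iff_of_charP (k := j) (p := r), ← he]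
  show (cyclotomic n (ZMod r)).eval (a : ZMod r) = 0
  rw [← map_cyclotomic_int n (ZMod r), ← Int.cast_natCast (R := ZMod r), ← eq_intCast
    (Int.castRingHom (ZMod r)), eval_map_apply]
  exact (ZMod.intCast_zmod_eq_zero_iff_dvd _ r).2 h

theorem orderOf_lt_of_not_primitive {n a r : ℕ} [hr : Fact r.Prime] (ha : 1 ≤ a)
    (h : ∃ k, 0 < k ∧ k < n ∧ r ∣ a ^ k - 1) : orderOf (a : ZMod r) < n := by
  obtain ⟨k, hk0, hkn, hk⟩ := h
  refine lt_of_le_of_lt (Nat.le_of_dvd hk0 (orderOf_dvd_of_pow_eq_one ?_)) hkn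
  have h1 : ((a ^ k - 1 : ℕ) : ZMod r) = 0 := (CharP.cast_eq_zero_iff (ZMod r) r _).2 hk
  rw [Nat.cast_sub (Nat.one_le_pow _ _ ha), Nat.cast_pow, Nat.cast_one, sub_eq_zero] at h1
  exact h1

theorem natCast_dvd_sub_one {n a r : ℕ} (ha : 1 ≤ a) (h : (r : ℤ) ∣ phiVal n a) :
    r ∣ a ^ n - 1 := by
  have h1 := h.trans (phiVal_dvd_pow_sub_one n a)
  rw [← Int.natCast_dvd_natCast, Nat.cast_sub (Nat.one_le_pow _ _ ha)]
  simpa using h1

theorem eval_cyclotomic_tower {R : Type*} [CommRing R] {r m : ℕ} (hr : r.Prime) (x : R) :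
    ∀ i : ℕ, (cyclotomic (m * r ^ (i + 1)) R).eval x =
      (cyclotomic (m * r) R).eval (x ^ r ^ i) := by
  intro i
  induction i generalizing x with
  | zero => simp
  | succ i ih =>
    rw [pow_succ r (i + 1), ← mul_assoc,
      ← cyclotomic_expand_eq_cyclotomic hr ((dvd_pow_self r (Nat.succ_ne_zero i)).mul_left m) R,
      expand_eval, ih, ← pow_mul, pow_succ', mul_comm]

theorem phiVal_lower_bound {r m a i : ℕ} (hr : r.Prime) (hm : ¬ r ∣ m) (ha : 1 < a)
    (hb : r * (a ^ r ^ i + 1) + 1 < (a ^ r ^ i) ^ r) :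
    phiVal (m * r ^ (i + 1)) a ≠ (r : ℤ) := by
  intro h
  have hm0 : 0 < m := Nat.pos_of_ne_zero fun h0 => hm (h0 ▸ dvd_zero r)
  set b : ℕ := a ^ r ^ i with hbdef
  have hb1 : 1 < b := Nat.one_lt_pow (pow_ne_zero _ hr.ne_zero) ha
  have h1 : (cyclotomic (m * r) ℝ).eval (b : ℝ) = (r : ℝ) := by
    have h2 := congrArg (Int.cast : ℤ → ℝ) h
    rw [phiVal, eval_cyclotomic_tower hr, ← eq_intCast (Int.castRingHom ℝ), ← eval_map_apply,
      map_cyclotomic_int] at h2
    simpa [hbdef] using h2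
  have hmul := congrArg (Polynomial.eval (b : ℝ)) (cyclotomic_expand_eq_cyclotomic_mul hr hm ℝ)
  rw [expand_eval, eval_mul, h1] at hmul
  have hbr : (1 : ℝ) < (b : ℝ) ^ r := one_lt_pow₀ (by exact_mod_cast hb1) hr.ne_zero
  have hlow := sub_one_pow_totient_le_cyclotomic_eval hbr m
  have hup := cyclotomic_eval_le_add_one_pow_totient (q := (b : ℝ)) (by exact_mod_cast hb1) m
  have hbR : (r : ℝ) * ((b : ℝ) + 1) < (b : ℝ) ^ r - 1 := by
    have h3 : ((r * (b + 1) + 1 : ℕ) : ℝ) < ((b ^ r : ℕ) : ℝ) := by exact_mod_cast hb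
    push_cast at h3
    linarith
  have hr1 : (1 : ℝ) ≤ r := by exact_mod_cast hr.one_lt.le
  have hφ : Nat.totient m ≠ 0 := (Nat.totient_pos.2 hm0).ne'
  have hlt : (r : ℝ) * ((b : ℝ) + 1) ^ Nat.totient m < ((b : ℝ) ^ r - 1) ^ Nat.totient m := by
    calc (r : ℝ) * ((b : ℝ) + 1) ^ Nat.totient m
        ≤ (r : ℝ) ^ Nat.totient m * ((b : ℝ) + 1) ^ Nat.totient m :=
          mul_le_mul_of_nonneg_right (le_self_pow₀ hr1 hφ) (by positivity)
      _ = ((r : ℝ) * ((b : ℝ) + 1)) ^ Nat.totient m := (mul_pow _ _ _).symm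
      _ < ((b : ℝ) ^ r - 1) ^ Nat.totient m := pow_lt_pow_left₀ hbR (by positivity) hφ
  have hle : ((b : ℝ) ^ r - 1) ^ Nat.totient m ≤ (r : ℝ) * ((b : ℝ) + 1) ^ Nat.totient m :=
    hlow.trans (hmul.le.trans (mul_le_mul_of_nonneg_left hup (by linarith)))
  exact absurd hle (not_le.2 hlt)

theorem not_sq_dvd_phiVal {r n a : ℕ} [hr : Fact r.Prime] (ho : Odd r) (ha : 1 < a)
    (hrn : r ∣ n) (hn : n ≠ 0) (hord : orderOf (a : ZMod r) ∣ n / r) :
    ¬ (r : ℤ) ^ 2 ∣ phiVal n a := by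
  intro h
  obtain ⟨d, rfl⟩ := hrn
  rw [Nat.mul_div_cancel_left _ hr.out.pos] at hord
  have hd : d ≠ 0 := fun h0 => hn (by rw [h0, mul_zero])
  set x : ℤ := (a : ℤ) ^ d with hx
  have hx1 : x - 1 ≠ 0 := by
    have h2 : (1 : ℤ) < x := one_lt_pow₀ (by exact_mod_cast ha) hd
    omega
  have hdvd : phiVal (r * d) a ∣ ∑ i ∈ Finset.range r, x ^ i := by
    have h1 := eval_dvd (x := (a : ℤ)) (X_pow_sub_one_mul_cyclotomic_dvd_X_pow_sub_one_of_dvd ℤ
      (Nat.mem_properDivisors.2 ⟨dvd_mul_left d r,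
        lt_mul_of_one_lt_left (Nat.pos_of_ne_zero hd) hr.out.one_lt⟩))
    rw [eval_mul, eval_sub, eval_pow, eval_X, eval_one, eval_sub, eval_pow, eval_X, eval_one,
      ← hx, mul_comm r d, pow_mul, ← hx, ← mul_geom_sum x r, mul_comm d r] at h1
    exact (mul_dvd_mul_iff_left hx1).1 h1
  have hxr : (r : ℤ) ∣ x - 1 := by
    refine (ZMod.intCast_zmod_eq_zero_iff_dvd _ r).1 ?_
    rw [hx]
    push_cast
    rw [orderOf_dvd_iff_pow_eq_one.1 hord, sub_self]
  obtain ⟨t, ht⟩ := hxr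
  have h2 := odd_sq_dvd_geom_sum₂_sub (R := ℤ) (a := 1) t ho
  simp only [one_pow, mul_one] at h2
  rw [show (1 : ℤ) + r * t = x by linarith] at h2
  have h3 : (r : ℤ) ^ 2 ∣ (r : ℤ) := by
    have := dvd_sub (h.trans hdvd) h2
    rwa [sub_sub_cancel] at this
  have h4 : r ^ 2 ∣ r := by exact_mod_cast h3
  have h5 := Nat.le_of_dvd hr.out.pos h4
  nlinarith [hr.out.two_le]

theorem exists_primitive_prime_divisor (a n : ℕ) (ha : 1 < a) (hn : 1 < n)
    (h6 : ¬ (a = 2 ∧ n = 6)) (h2 : ¬ (n = 2 ∧ ∃ m : ℕ, a + 1 = 2 ^ m)) :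
    ∃ r : ℕ, r.Prime ∧ r ∣ a ^ n - 1 ∧ ∀ k : ℕ, 0 < k → k < n → ¬ r ∣ a ^ k - 1 := by
  rcases (show n = 2 ∨ 3 ≤ n by omega) with rfl | hn3
  · -- the odd prime divisors of `a + 1`
    have hex : ∃ r, r.Prime ∧ r ∣ a + 1 ∧ r ≠ 2 := by
      by_contra hno
      push Not at hno
      exact h2 ⟨rfl, _, Nat.eq_prime_pow_of_unique_prime_dvd (by omega)
        fun {d} hd hdv => hno d hd hdv⟩
    obtain ⟨r, hr, hra, hr2⟩ := hex
    refine ⟨r, hr, ?_, fun k hk hk2 => ?_⟩
    · have h := Nat.sq_sub_sq a 1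
      rw [one_pow] at h
      rw [h]
      exact dvd_mul_of_dvd_left hra _
    · obtain rfl : k = 1 := by omega
      rw [pow_one]
      intro hd
      have h := Nat.dvd_sub hra hd
      rw [show a + 1 - (a - 1) = 2 by omega] at h
      exact hr2 ((Nat.prime_dvd_prime_iff_eq hr Nat.prime_two).1 h)
  by_contra hno
  push Not at hno
  have key : ∀ r : ℕ, r.Prime → (r : ℤ) ∣ phiVal n a →
      ∃ j m, n = r ^ (j + 1) * m ∧ ¬ r ∣ m ∧ orderOf (a : ZMod r) = m ∧ m ∣ r - 1 := by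
    intro r hr hd
    haveI := Fact.mk hr
    obtain ⟨j, m, he, hm, ho⟩ := orderOf_of_dvd_phiVal (by omega) hd
    have hlt := orderOf_lt_of_not_primitive (a := a) (n := n) (r := r) (by omega) (by
      obtain ⟨k, hk1, hk2, hk3⟩ := hno r hr (natCast_dvd_sub_one (by omega) hd)
      exact ⟨k, hk1, hk2, hk3⟩)
    rw [ho] at hlt
    rcases j with _ | j
    · rw [pow_zero, one_mul] at he
      omega
    refine ⟨j, m, he, hm, ho, ?_⟩
    rw [← ho]
    refine ZMod.orderOf_dvd_card_sub_one fun h0 => ?_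
    have hm0 : m ≠ 0 := fun h => hm (h ▸ dvd_zero r)
    rw [h0, orderOf_zero] at ho
    exact hm0 ho.symm
  set N := (phiVal n a).natAbs with hN
  have hNpos : (0 : ℤ) < phiVal n a := cyclotomic_pos' n (by exact_mod_cast ha)
  have hN' : (N : ℤ) = phiVal n a := Int.natAbs_of_nonneg hNpos.le
  have hN1 : 1 < N := by
    have := sub_one_lt_natAbs_cyclotomic_eval (n := n) (q := a) hn (by omega)
    show 1 < ((cyclotomic n ℤ).eval (a : ℤ)).natAbs
    omega
  obtain ⟨r, hr, hrN⟩ := Nat.exists_prime_and_dvd hN1.ne'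
  have hcast : ∀ d : ℕ, d ∣ N → (d : ℤ) ∣ phiVal n a := fun d hd =>
    hN' ▸ Int.natCast_dvd_natCast.2 hd
  obtain ⟨j, m, he, hm, ho, hm1⟩ := key r hr (hcast r hrN)
  have huniq : ∀ {d : ℕ}, d.Prime → d ∣ N → d = r := by
    intro d hd hdN
    by_contra hdr
    obtain ⟨j', m', he', hm', -, hm1'⟩ := key d hd (hcast d hdN)
    have hdm : d ∣ m := by
      have h : d ∣ r ^ (j + 1) * m :=
        he ▸ he' ▸ (dvd_pow_self d (Nat.succ_ne_zero j')).mul_right m'
      exact ((hd.dvd_mul).1 h).resolve_left fun h' =>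
        hdr ((Nat.prime_dvd_prime_iff_eq hd hr).1 (hd.dvd_of_dvd_pow h'))
    have hrm : r ∣ m' := by
      have h : r ∣ d ^ (j' + 1) * m' :=
        he' ▸ he ▸ (dvd_pow_self r (Nat.succ_ne_zero j)).mul_right m
      exact ((hr.dvd_mul).1 h).resolve_left fun h' =>
        hdr ((Nat.prime_dvd_prime_iff_eq hr hd).1 (hr.dvd_of_dvd_pow h')).symm
    have h1 := Nat.le_of_dvd (by have := hr.two_le; omega) (hdm.trans hm1)
    have h2 := Nat.le_of_dvd (by have := hd.two_le; omega) (hrm.trans hm1')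
    have := hd.two_le
    have := hr.two_le
    omega
  have hpow : N = r ^ N.primeFactorsList.length :=
    Nat.eq_prime_pow_of_unique_prime_dvd (by omega) huniq
  haveI := Fact.mk hr
  rcases hr.eq_two_or_odd' with rfl | hodd
  · -- `n` is a power of two
    obtain rfl : m = 1 := Nat.dvd_one.1 (by simpa using hm1)
    rw [mul_one] at he
    rcases j with _ | j
    · simp at he
      omega
    set y : ℤ := (a : ℤ) ^ 2 ^ j with hy
    have hval : phiVal n a = y ^ 2 + 1 := by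
      rw [phiVal, he, cyclotomic_prime_pow_eq_geom_sum Nat.prime_two]
      simp only [Finset.sum_range_succ, Finset.sum_range_zero, zero_add, pow_zero, pow_one,
        eval_add, eval_one, eval_pow, eval_X]
      rw [hy, pow_succ 2 j, pow_mul]
      ring
    have hy1 : (1 : ℤ) < y := one_lt_pow₀ (by exact_mod_cast ha) (pow_ne_zero _ two_ne_zero)
    have h4 : (4 : ℤ) ∣ y ^ 2 + 1 := by
      rw [← hval, ← hN', hpow]
      have hlen : 2 ≤ N.primeFactorsList.length := by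
        by_contra hlt
        have h5 : N ≤ 2 := hpow ▸ Nat.le_of_dvd two_pos
          ((pow_dvd_pow 2 (show N.primeFactorsList.length ≤ 1 by omega)).trans (by simp))
        have h6 : (5 : ℤ) ≤ N := by rw [hN', hval]; nlinarith
        omega
      exact_mod_cast (pow_dvd_pow 2 hlen : 2 ^ 2 ∣ _)
    have h5 := (ZMod.intCast_zmod_eq_zero_iff_dvd _ 4).2 h4
    push_cast at h5
    revert h5
    generalize (y : ZMod 4) = z
    revert z
    decide
  have hnsq : ¬ (r : ℤ) ^ 2 ∣ phiVal n a := by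
    refine not_sq_dvd_phiVal hodd ha (he ▸ (dvd_pow_self r (Nat.succ_ne_zero j)).mul_right m)
      (by omega) ?_
    rw [ho, he, pow_succ', mul_assoc, Nat.mul_div_cancel_left _ hr.pos]
    exact dvd_mul_left m _
  have hNr : phiVal n a = (r : ℤ) := by
    rw [← hN', hpow]
    have hlen : N.primeFactorsList.length = 1 := by
      by_contra hne
      rcases (show N.primeFactorsList.length = 0 ∨ 2 ≤ N.primeFactorsList.length by omega) with
        h | h
      · rw [h, pow_zero] at hpow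
        omega
      · refine hnsq ?_
        rw [← hN', hpow]
        exact_mod_cast pow_dvd_pow r h
    rw [hlen, pow_one]
  have hr3 : 3 ≤ r := by
    have := hr.two_le
    obtain ⟨u, hu⟩ := hodd
    omega
  rw [he, mul_comm] at hNr
  by_cases hsmall : r = 3 ∧ a ^ r ^ j = 2
  · obtain ⟨rfl, hb⟩ := hsmall
    have ha2 : a = 2 := by
      have : a ≤ a ^ 3 ^ j := Nat.le_self_pow (pow_ne_zero _ (by norm_num)) a
      omega
    have hj : j = 0 := by
      rw [ha2] at hb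
      have h := Nat.pow_right_injective le_rfl (hb.trans (pow_one 2).symm)
      exact (Nat.pow_eq_one.1 h).resolve_left (by norm_num)
    subst hj ha2
    rcases (Nat.dvd_prime Nat.prime_two).1 (by simpa using hm1) with rfl | rfl
    · rw [phiVal] at hNr
      simp at hNr
    · exact h6 ⟨rfl, he⟩
  refine phiVal_lower_bound hr hm ha ?_ hNr
  set b := a ^ r ^ j
  have hb2 : 2 ≤ b := Nat.one_lt_pow (pow_ne_zero _ hr.ne_zero) ha
  rcases (show r = 3 ∨ 4 ≤ r by omega) with rfl | hr4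
  · have hb3 : 3 ≤ b := by
      rcases (show b = 2 ∨ 3 ≤ b by omega) with h | h
      · exact absurd ⟨rfl, h⟩ hsmall
      · exact h
    nlinarith [Nat.mul_le_mul hb3 hb3]
  · have h1 : ∀ k, 4 ≤ k → 3 * k + 2 ≤ 2 ^ k := by
      intro k hk
      induction k, hk using Nat.le_induction with
      | base => norm_num
      | succ k hk ih => rw [pow_succ]; omega
    obtain ⟨r', rfl⟩ : ∃ r', r = r' + 1 := ⟨r - 1, by omega⟩
    have h2 : 2 ^ r' ≤ b ^ r' := Nat.pow_le_pow_left hb2 r'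
    have h3 := h1 (r' + 1) hr4
    rw [pow_succ] at h3 ⊢
    nlinarith [Nat.mul_le_mul_right b h2]

end Cfsg.Agent.Zsigmondy
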